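import Cfsg.Agent.H653.Four.Weak
import Cfsg.Agent.H653.Sieve.Dist

/-!
# S4773: building the weak facts from clauses (helper653)

`Weak.of_list` : `L` the factorisation of the order (only `p ^ a ∣ |S|` is used), `E` a list of clauses (`Cl S c` : one of
the numbers of the list `c` divides some degree), `B` a list of pairs `(l, m)` with `Bad l m S` (the order of an abelian
subgroup of index prime to `l` divides `m`), e.g. from `|C(x)| = m` for `x` of order `l ∥ |S|` (`bad_of_cent`).
-/

set_option autoImplicit false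

namespace Cfsg.Agent.H653.Four

open Cfsg Cfsg.Agent.H671.H5 Cfsg.Agent.H653.Graph Subgroup

universe u v

variable {S : Type u} [Group S]

/-- The order of an abelian subgroup of index prime to `l` divides `m`. -/
def Bad (l m : ℕ) (S : Type u) [Group S] : Prop := ∀ A : Subgroup S, (∀ a ∈ A, ∀ b ∈ A, a * b = b * a) →
  ¬ l ∣ A.index → Nat.card A ∣ m

/-- from the centralizers of all elements of order `l` -/
theorem bad_of_forall [Finite S] {l m : ℕ} (hl : l.Prime) (hd : l ∣ Nat.card S)
    (hc : ∀ x : S, orderOf x = l → Nat.card ↥(centralizer ({x} : Set S)) ∣ m) : Bad l m S := by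
  intro A hA hidx
  have hlA : l ∣ Nat.card A := by
    rw [← Subgroup.card_mul_index A] at hd
    exact ((Nat.Prime.dvd_mul hl).1 hd).resolve_right hidx
  have hlf : Fact l.Prime := ⟨hl⟩
  obtain ⟨y, hy⟩ := exists_prime_orderOf_dvd_card' (G := A) l hlA
  have hy' : orderOf (y : S) = l := by rwa [Subgroup.orderOf_coe]
  refine (Subgroup.card_dvd_of_le ?_).trans (hc y hy')
  intro z hz
  exact mem_centralizer_singleton_iff.2 (hA z hz y y.2)

/-- from the centralizer of one element of order `l`, `l ∥ |S|` -/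
theorem bad_of_cent [Finite S] {l m : ℕ} (hl : l.Prime) (hd : l ∣ Nat.card S) (h2 : ¬ l ^ 2 ∣ Nat.card S) {x : S}
    (hx : orderOf x = l) (hc : Nat.card ↥(centralizer ({x} : Set S)) ∣ m) : Bad l m S :=
  bad_of_forall hl hd fun y hy => by
    rw [H436.StabData.card_cent_eq hl h2 hy hx]
    exact hc

theorem Bad.of_equiv {T : Type v} [Group T] {l m : ℕ} (h : Bad l m T) (e : S ≃* T) : Bad l m S := by
  intro A hA hidx
  have h1 : Nat.card (A.map e.toMonoidHom) = Nat.card A :=
    (Nat.card_congr (A.equivMapOfInjective e.toMonoidHom e.injective).toEquiv).symm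
  rw [← h1]
  refine h (A.map e.toMonoidHom) ?_ ?_
  · rintro _ ⟨a, ha, rfl⟩ _ ⟨b, hb, rfl⟩
    change e a * e b = e b * e a
    rw [← map_mul, hA a ha b hb, map_mul]
  · have h2 : (A.map e.toMonoidHom).index = A.index := Subgroup.index_map_equiv A e
    rw [h2]
    exact hidx

/-- The clause `c` says that two elements of `s` are adjacent. -/
def kill (s c : List ℕ) : Bool := c.all fun m => s.any fun p => s.any fun q => !(p == q) && (m % (p * q) == 0)

theorem adj_of_kill {s c : List ℕ} (hs : ∀ p ∈ s, p.Prime) (hc : Cl S c) (hk : kill s c = true) :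
    ∃ p ∈ s, ∃ q ∈ s, Adj p q S := by
  obtain ⟨m, hm, χ, hχ⟩ := hc
  unfold kill at hk
  rw [List.all_eq_true] at hk
  have h1 := hk m hm
  rw [List.any_eq_true] at h1
  obtain ⟨p, hp, h2⟩ := h1
  rw [List.any_eq_true] at h2
  obtain ⟨q, hq, h3⟩ := h2
  simp only [Bool.and_eq_true, Bool.not_eq_true', beq_eq_false_iff_ne, ne_eq, beq_iff_eq] at h3
  exact ⟨p, hp, q, hq, adj_iff.2 ⟨h3.1, hs p hp, hs q hq, χ, (Nat.dvd_of_mod_eq_zero h3.2).trans hχ⟩⟩

def ok4 (P : List ℕ) (E : List (List ℕ)) : Bool := (List.sublistsLen 4 P).all fun s => E.any fun c => kill s c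

/-- the exponent of `x` in the list -/
def expo (L : List (ℕ × ℕ)) (x : ℕ) : ℕ := (L.find? fun y => y.1 == x).elim 0 Prod.snd

def okB (L : List (ℕ × ℕ)) (E : List (List ℕ)) (B : List (ℕ × ℕ)) : Bool :=
  (List.sublistsLen 3 (L.map Prod.fst)).all fun s =>
    (E.any fun c => kill s c) || B.any fun b => (s.any fun l => l == b.1) && s.any fun x => !(b.2 % (x ^ expo L x) == 0)

theorem pow_expo_dvd {L : List (ℕ × ℕ)} {N : ℕ} (h : ∀ y ∈ L, y.1 ^ y.2 ∣ N) (x : ℕ) : x ^ expo L x ∣ N := by
  unfold expo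
  cases hf : L.find? fun y => y.1 == x with
  | none => simp
  | some y =>
    have h1 := List.mem_of_find?_eq_some hf
    have h2 := List.find?_some hf
    simp only [beq_iff_eq] at h2
    rw [← h2]
    exact h y h1

theorem sub_list {P : List ℕ} (hnd : P.Nodup) {s : Finset ℕ} (hs : ∀ p ∈ s, p ∈ P) {n : ℕ} (hn : s.card = n) :
    P.filter (fun p => decide (p ∈ s)) ∈ List.sublistsLen n P := by
  rw [List.mem_sublistsLen]
  refine ⟨List.filter_sublist, ?_⟩
  have h1 : (P.filter fun p => decide (p ∈ s)).toFinset = s := by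
    ext p
    simp only [List.mem_toFinset, List.mem_filter, decide_eq_true_eq]
    exact ⟨fun h => h.2, fun h => ⟨hs p h, h⟩⟩
  have h2 := List.toFinset_card_of_nodup (hnd.filter fun p => decide (p ∈ s))
  rw [h1, hn] at h2
  exact h2.symm

/-- **The weak facts from clauses.** -/
theorem Weak.of_list {L : List (ℕ × ℕ)} {E : List (List ℕ)} {B : List (ℕ × ℕ)} (hnd : (L.map Prod.fst).Nodup)
    (hP : ∀ p : ℕ, p.Prime → p ∣ Nat.card S → p ∈ L.map Prod.fst) (hL : ∀ y ∈ L, y.1 ^ y.2 ∣ Nat.card S)
    (hE : ∀ c ∈ E, Cl S c) (hB : ∀ b ∈ B, Bad b.1 b.2 S)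
    (hout : ∀ a : MulAut S, (orderOf a).Prime → orderOf a ∣ Nat.card S) (h4 : ok4 (L.map Prod.fst) E = true)
    (h3 : okB L E B = true) : Weak S := by
  classical
  refine ⟨?_, ?_, hout⟩
  · intro s hc hs
    unfold ok4 at h4
    rw [List.all_eq_true] at h4
    have h1 := h4 _ (sub_list hnd (fun p hp => hP p (hs p hp).1 (hs p hp).2) hc)
    rw [List.any_eq_true] at h1
    obtain ⟨c, hcE, hk⟩ := h1
    obtain ⟨p, hp, q, hq, h⟩ := adj_of_kill (fun p hp => by
      have := (List.mem_filter.1 hp).2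
      exact (hs p (by simpa using this)).1) (hE c hcE) hk
    have hp' := (List.mem_filter.1 hp).2
    have hq' := (List.mem_filter.1 hq).2
    exact ⟨p, by simpa using hp', q, by simpa using hq', h⟩
  · intro s hc hs hn A hA hidx
    unfold okB at h3
    rw [List.all_eq_true] at h3
    have h1 := h3 _ (sub_list hnd (fun p hp => hP p (hs p hp).1 (hs p hp).2) hc)
    rw [Bool.or_eq_true] at h1
    have hmem : ∀ p ∈ (L.map Prod.fst).filter (fun p => decide (p ∈ s)), p ∈ s := fun p hp => by
      have := (List.mem_filter.1 hp).2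
      simpa using this
    rcases h1 with h1 | h1
    · rw [List.any_eq_true] at h1
      obtain ⟨c, hcE, hk⟩ := h1
      obtain ⟨p, hp, q, hq, h⟩ := adj_of_kill (fun p hp => (hs p (hmem p hp)).1) (hE c hcE) hk
      exact hn p (hmem p hp) q (hmem q hq) h
    · rw [List.any_eq_true] at h1
      obtain ⟨b, hbB, hb⟩ := h1
      rw [Bool.and_eq_true, List.any_eq_true, List.any_eq_true] at hb
      obtain ⟨⟨l, hl, hlb⟩, x, hx, hxb⟩ := hb
      simp only [Bool.not_eq_true', beq_eq_false_iff_ne, ne_eq, beq_iff_eq] at hlb hxb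
      subst hlb
      have hls := hmem _ hl
      have hxs := hmem x hx
      have hxA : x ^ expo L x ∣ Nat.card A := by
        have h5 := pow_expo_dvd hL x
        rw [← Subgroup.card_mul_index A] at h5
        refine Nat.Coprime.dvd_of_dvd_mul_right ?_ h5
        exact Nat.Coprime.pow_left _ ((Nat.Prime.coprime_iff_not_dvd (hs x hxs).1).2 (hidx x hxs))
      exact hxb (Nat.mod_eq_zero_of_dvd (hxA.trans (hB b hbB A hA (hidx _ hls))))

end Cfsg.Agent.H653.Four
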