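import Cfsg.Agent.H653.Four.Build
import Cfsg.Agent.H714.DG.CoTwoF
import Cfsg.Agent.SmallSimple.PSLTwoPart
import Cfsg.Agent.S0506

/-!
# S4773: the weak facts of `Co2` (helper653)

* `card_of_abelian_two` : a simple group of order divisible by 16 with an abelian subgroup of odd index has the order
  `2^a (4^a - 1)` (Walter, Bombieri: S0506);
* `bad_two` : otherwise `Bad 2 m S` for every `m`;
* `weak_co2`.
-/

set_option autoImplicit false

namespace Cfsg.Agent.H653.Four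

open Cfsg Cfsg.Agent.H671.H5 Cfsg.Agent.H653.Graph Subgroup

universe u

theorem card_of_abelian_two {S : Type u} [Group S] [Finite S] [IsSimpleGroup S] (hS : ¬ IsMulCommutative S)
    (h16 : 16 ∣ Nat.card S) (A : Subgroup S) (hA : ∀ a ∈ A, ∀ b ∈ A, a * b = b * a) (hidx : ¬ 2 ∣ A.index) :
    ∃ a : ℕ, 2 ≤ a ∧ Nat.card S = 2 ^ a * ((2 ^ a) ^ 2 - 1) := by
  have : Fact (Nat.Prime 2) := ⟨Nat.prime_two⟩
  let P : Sylow 2 S := default
  obtain ⟨Q⟩ : Nonempty (Sylow 2 A) := inferInstance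
  have hQ : IsPGroup 2 ((Q : Subgroup A).map A.subtype) := Q.isPGroup'.map _
  have hidx2 : ¬ 2 ∣ ((Q : Subgroup A).map A.subtype).index := by
    have h1 : ((Q : Subgroup A).map A.subtype).index = (Q : Subgroup A).index * A.index := by
      rw [Subgroup.index_map_subtype]
    rw [h1, Nat.Prime.dvd_mul Nat.prime_two]
    rintro (h | h)
    · exact Q.not_dvd_index h
    · exact hidx h
  let T : Sylow 2 S := IsPGroup.toSylow hQ hidx2
  have hT : (T : Subgroup S) = (Q : Subgroup A).map A.subtype := IsPGroup.toSylow_coe hQ hidx2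
  have hcomm : IsMulCommutative (T : Subgroup S) := by
    refine ⟨⟨fun x y => ?_⟩⟩
    apply Subtype.ext
    have hle : (T : Subgroup S) ≤ A := by
      rw [hT]
      exact Subgroup.map_subtype_le _
    exact hA x (hle x.2) y (hle y.2)
  rcases Cfsg.Agent.S0506.result hS T hcomm with ⟨a, ha, F, _, _, hF, ⟨e⟩⟩ | ⟨F, _, _, hF, ⟨e⟩⟩ | h | h
  · have hc := Cfsg.Agent.SmallSimple.PSLTwoPart.card_psl_two_even (F := F)
      (by rw [hF]; exact (Nat.even_pow.2 ⟨even_two, by omega⟩))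
    rw [← Nat.card_congr e.toEquiv, hF] at hc
    exact ⟨a, ha, hc⟩
  · exfalso
    have hc := Cfsg.Agent.SmallSimple.PSLTwoPart.card_psl_two_odd (F := F) (Nat.odd_iff.2 (by omega))
    rw [← Nat.card_congr e.toEquiv] at hc
    generalize Fintype.card F = q at hF hc
    obtain ⟨k, hk⟩ := h16
    rw [hk] at hc
    obtain ⟨j, hj⟩ : ∃ j, q = 8 * j + 3 ∨ q = 8 * j + 5 := ⟨q / 8, by omega⟩
    have h2 : q * (q ^ 2 - 1) % 16 = 8 := by
      rcases hj with rfl | rfl
      · have e1 : (8 * j + 3) ^ 2 - 1 = 16 * (4 * j ^ 2 + 3 * j) + 8 := by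
          rw [Nat.sub_eq_iff_eq_add (Nat.one_le_pow _ _ (by omega))]
          ring
        rw [e1]
        have e2 : (8 * j + 3) * (16 * (4 * j ^ 2 + 3 * j) + 8) = 16 * ((8 * j + 3) * (4 * j ^ 2 + 3 * j) + 4 * j + 1) + 8 := by
          ring
        omega
      · have e1 : (8 * j + 5) ^ 2 - 1 = 16 * (4 * j ^ 2 + 5 * j + 1) + 8 := by
          rw [Nat.sub_eq_iff_eq_add (Nat.one_le_pow _ _ (by omega))]
          ring
        rw [e1]
        have e2 : (8 * j + 5) * (16 * (4 * j ^ 2 + 5 * j + 1) + 8) =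
            16 * ((8 * j + 5) * (4 * j ^ 2 + 5 * j + 1) + 4 * j + 2) + 8 := by
          ring
        omega
    omega
  · exfalso
    obtain ⟨-, m, -, hc⟩ := h
    have h3 : 3 ^ (2 * m + 1) % 8 = 3 := by
      rw [pow_succ, pow_mul, Nat.mul_mod, Nat.pow_mod]
      norm_num
    generalize 3 ^ (2 * m + 1) = q at hc h3
    obtain ⟨k, hk⟩ := h16
    rw [hk] at hc
    obtain ⟨j, rfl⟩ : ∃ j, q = 8 * j + 3 := ⟨q / 8, by omega⟩
    have e0 : 8 * j + 3 - 1 = 2 * (4 * j + 1) := by omega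
    have e1 : (8 * j + 3) ^ 3 + 1 = 4 * (128 * j ^ 3 + 144 * j ^ 2 + 54 * j + 7) := by ring
    rw [e0, e1] at hc
    have e2 : (8 * j + 3) ^ 3 * (4 * (128 * j ^ 3 + 144 * j ^ 2 + 54 * j + 7)) * (2 * (4 * j + 1)) =
        8 * ((8 * j + 3) ^ 3 * (128 * j ^ 3 + 144 * j ^ 2 + 54 * j + 7) * (4 * j + 1)) := by ring
    rw [e2] at hc
    have h5 : 2 * k = (8 * j + 3) ^ 3 * (128 * j ^ 3 + 144 * j ^ 2 + 54 * j + 7) * (4 * j + 1) := by omega
    have hodd : Odd ((8 * j + 3) ^ 3 * (128 * j ^ 3 + 144 * j ^ 2 + 54 * j + 7) * (4 * j + 1)) := by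
      refine Odd.mul (Odd.mul (Odd.pow ⟨4 * j + 1, by ring⟩) ⟨64 * j ^ 3 + 72 * j ^ 2 + 27 * j + 3, by ring⟩)
        ⟨2 * j, by ring⟩
    rw [← h5] at hodd
    exact (Nat.not_odd_iff_even.2 (even_two_mul k)) hodd
  · exfalso
    rw [h.2] at h16
    exact absurd h16 (by decide)

/-- no abelian subgroup of odd index -/
theorem bad_two {S : Type u} [Group S] [Finite S] [IsSimpleGroup S] (hS : ¬ IsMulCommutative S)
    (h16 : 16 ∣ Nat.card S) (hne : ∀ a : ℕ, Nat.card S ≠ 2 ^ a * ((2 ^ a) ^ 2 - 1)) (m : ℕ) : Bad 2 m S := by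
  intro A hA hidx
  obtain ⟨a, -, h⟩ := card_of_abelian_two hS h16 A hA hidx
  exact absurd h (hne a)

theorem ne_of_between {N b : ℕ} (h1 : 2 ^ b * ((2 ^ b) ^ 2 - 1) < N) (h2 : N < 2 ^ (b + 1) * ((2 ^ (b + 1)) ^ 2 - 1))
    (a : ℕ) : N ≠ 2 ^ a * ((2 ^ a) ^ 2 - 1) := by
  have hmono : ∀ x y : ℕ, x ≤ y → 2 ^ x * ((2 ^ x) ^ 2 - 1) ≤ 2 ^ y * ((2 ^ y) ^ 2 - 1) := fun x y h =>
    Nat.mul_le_mul (Nat.pow_le_pow_right (by norm_num) h)
      (Nat.sub_le_sub_right (Nat.pow_le_pow_left (Nat.pow_le_pow_right (by norm_num) h) 2) 1)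
  intro h
  rcases le_or_gt a b with hab | hab
  · have := hmono a b hab
    omega
  · have := hmono (b + 1) a hab
    omega

/-- **The weak facts of `Co2`** (all prime divisors but `{2,3,5}`, `{2,3,7}` by the degrees 275, 2024, 2277, 44275; the
Sylow two-subgroups are not abelian). -/
theorem weak_co2 {S : Type u} [Group S] (h : Spor.IsoCo2 S)
    (hout : ∀ a : MulAut S, (orderOf a).Prime → orderOf a ∣ Nat.card S) : Weak S := by
  obtain ⟨e⟩ := h
  have hfin : Finite Spor.Co2 := Cfsg.Agent.Co2Type.CardCo2.finite_co2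
  have hs : IsSimpleGroup Spor.Co2 := Cfsg.Agent.Schreier.CoTwoStab.isSimpleGroup
  have hc2 := Cfsg.Agent.Co2Type.CardCo2.card_co2
  have hc : Nat.card S = 42305421312000 := by rw [Nat.card_congr e.toEquiv, hc2]
  have hna : ¬ IsMulCommutative Spor.Co2 := by
    intro hcm
    have h1 : ∀ a b : Spor.Co2, a * b = b * a := fun a b => hcm.is_comm.comm a b
    have h3 : (Nat.card Spor.Co2).Prime := by
      let _ : CommGroup Spor.Co2 := { mul_comm := h1 }
      exact IsSimpleGroup.prime_card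
    rw [hc2] at h3
    exact absurd h3 (by norm_num)
  have hcl : ∀ d, H671.H5.IM d Spor.Co2 → Cl S [d] := fun d hd => by
    obtain ⟨χ, hχ⟩ := H33.IM.of_equiv e hd
    exact ⟨d, by simp, χ, hχ⟩
  have hbad : Bad 2 1 Spor.Co2 := bad_two hna (by rw [hc2]; norm_num)
    (fun a => by rw [hc2]; exact ne_of_between (b := 15) (by norm_num) (by norm_num) a) 1
  refine Weak.of_list (L := [(2, 18), (3, 6), (5, 3), (7, 1), (11, 1), (23, 1)]) (E := [[275], [2024], [2277], [44275]])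
    (B := [(2, 1)]) (by decide) ?_ ?_ ?_ ?_ hout (by decide +kernel) (by decide +kernel)
  · intro p hp hd
    rw [hc, show 42305421312000 = 2 ^ 18 * 3 ^ 6 * 5 ^ 3 * 7 ^ 1 * 11 ^ 1 * 23 ^ 1 by norm_num] at hd
    simp only [hp.dvd_mul] at hd
    have h2 : ∀ q n : ℕ, q.Prime → p ∣ q ^ n → p = q := fun q n hq h =>
      (Nat.prime_dvd_prime_iff_eq hp hq).1 (hp.dvd_of_dvd_pow h)
    simp only [List.map_cons, List.map_nil, List.mem_cons, List.not_mem_nil, or_false]
    rcases hd with ((((hd | hd) | hd) | hd) | hd) | hd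
    · have := h2 2 _ (by norm_num) hd; omega
    · have := h2 3 _ (by norm_num) hd; omega
    · have := h2 5 _ (by norm_num) hd; omega
    · have := h2 7 _ (by norm_num) hd; omega
    · have := h2 11 _ (by norm_num) hd; omega
    · have := h2 23 _ (by norm_num) hd; omega
  · intro y hy
    rw [hc]
    simp only [List.mem_cons, List.not_mem_nil, or_false] at hy
    rcases hy with rfl | rfl | rfl | rfl | rfl | rfl <;> norm_num
  · intro c hcm
    simp only [List.mem_cons, List.not_mem_nil, or_false] at hcm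
    rcases hcm with rfl | rfl | rfl | rfl
    · exact hcl _ (H678.DG.Rows.im_of_hasDeg Cfsg.Agent.H843.IMC.Co2A.hasDeg_2024_275.2)
    · exact hcl _ (H678.DG.Rows.im_of_hasDeg Cfsg.Agent.H843.IMC.Co2A.hasDeg_2024_275.1)
    · exact hcl _ (H678.DG.Rows.im_of_hasDeg Cfsg.Agent.H843.IMC.Co2B.hasDeg_2277)
    · exact hcl _ H714.DG.CoTwoF.im_44275
  · intro b hb
    simp only [List.mem_cons, List.not_mem_nil, or_false] at hb
    subst hb
    exact hbad.of_equiv e

end Cfsg.Agent.H653.Four
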