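import Cfsg.Agent.H653.Four.Build
import Cfsg.Agent.H653.Spor.Ru

/-!
# S4773: the weak facts of `Ru` (helper653)
-/

set_option autoImplicit false

namespace Cfsg.Agent.H653.Four

open Cfsg Cfsg.Agent.H671.H5 Cfsg.Agent.H653.Graph Subgroup Cfsg.Agent.SporadicB

universe u

theorem weak_ru {S : Type u} [Group S] (h : Spor.IsoRu S)
    (hout : ∀ a : MulAut S, (orderOf a).Prime → orderOf a ∣ Nat.card S) : Weak S := by
  obtain ⟨e⟩ := h
  have e' : S ≃* RuOrder.H := e.trans RuLat.Main.equiv
  have hfin := H436.TwoRu.finite_H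
  have hc : Nat.card S = 145926144000 := by rw [Nat.card_congr e'.toEquiv, RuOrder.card_H]
  have hcl : ∀ m : ℕ, H33.IM m RuOrder.H → Cl S [m] := fun m hm => by
    obtain ⟨χ, hχ⟩ := H33.IM.of_equiv e' hm
    exact ⟨m, by simp, χ, hχ⟩
  obtain ⟨h1, h2⟩ := H653.Spor.Ru.im_degs
  have hbad : Bad 29 29 RuOrder.H := bad_of_forall (by norm_num) (by rw [RuOrder.card_H]; norm_num)
    fun x hx => by simpa using H436.TwoRu.cent29 x hx
  refine Weak.of_list (L := [(2, 14), (3, 3), (5, 3), (7, 1), (13, 1), (29, 1)]) (E := [[783], [3276]]) (B := [(29, 29)])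
    (by decide) ?_ ?_ ?_ ?_ hout (by decide +kernel) (by decide +kernel)
  · intro p hp hd
    rw [hc, show 145926144000 = 2 ^ 14 * 3 ^ 3 * 5 ^ 3 * 7 ^ 1 * 13 ^ 1 * 29 ^ 1 by norm_num] at hd
    simp only [hp.dvd_mul] at hd
    have h2 : ∀ q n : ℕ, q.Prime → p ∣ q ^ n → p = q := fun q n hq h =>
      (Nat.prime_dvd_prime_iff_eq hp hq).1 (hp.dvd_of_dvd_pow h)
    simp only [List.map_cons, List.map_nil, List.mem_cons, List.not_mem_nil, or_false]
    rcases hd with ((((hd | hd) | hd) | hd) | hd) | hd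
    · have := h2 2 _ (by norm_num) hd; omega
    · have := h2 3 _ (by norm_num) hd; omega
    · have := h2 5 _ (by norm_num) hd; omega
    · have := h2 7 _ (by norm_num) hd; omega
    · have := h2 13 _ (by norm_num) hd; omega
    · have := h2 29 _ (by norm_num) hd; omega
  · intro y hy
    rw [hc]
    simp only [List.mem_cons, List.not_mem_nil, or_false] at hy
    rcases hy with rfl | rfl | rfl | rfl | rfl | rfl <;> norm_num
  · intro c hcm
    simp only [List.mem_cons, List.not_mem_nil, or_false] at hcm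
    rcases hcm with rfl | rfl
    · exact hcl _ h1
    · exact hcl _ h2
  · intro b hb
    simp only [List.mem_cons, List.not_mem_nil, or_false] at hb
    subst hb
    exact hbad.of_equiv e'

end Cfsg.Agent.H653.Four
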