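import Cfsg.Agent.H191.FourL2
import Cfsg.Agent.H678.DG.Basic
import Cfsg.Agent.H436.StabData

/-!
# S4773: `FactInd4`, `FactL2A`, `FactL2B` from a weak form of `FactInd` (helper653)

For the sporadic groups the full `FactInd` (no three pairwise nonadjacent primes) is not needed:

* `Weak S` : among four prime divisors of `|S|` two are adjacent; no abelian subgroup has index prime to three
  pairwise nonadjacent primes; every automorphism of prime order has order dividing `|S|`;
* `FactIndW` : every simple group other than `PSL(2,F)` satisfies `Ind S` (as in `FactInd`) or `Weak S`;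
* `factInd4`, `factL2A`, `factL2B` : from `FactIndW` and `FactIM`;
* `Bad p S` : an abelian subgroup of index prime to `p` is a `p`-group; `bad_of_cent` (a prime `l`, `l ∥ |S|`, with
  `|C(x)| = l`), `bad_of_nonabelian`;
* `Weak.of_list` : from a list of divisors of degrees and a list of bad primes.
-/

set_option autoImplicit false
set_option linter.unusedSectionVars false

namespace Cfsg.Agent.H653.Four

open Cfsg Cfsg.Agent.H671.H5 Cfsg.Agent.H672.Four Cfsg.Agent.H191.FourL2

universe u v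

/-- Among three primes dividing degrees two are adjacent. -/
def Ind (S : Type u) [Group S] : Prop := ∀ p ∈ Cfsg.degreePrimes S, ∀ q ∈ Cfsg.degreePrimes S,
  ∀ r ∈ Cfsg.degreePrimes S, p ≠ q → q ≠ r → p ≠ r → Adj p q S ∨ Adj q r S ∨ Adj p r S

/-- Among four prime divisors of the order two are adjacent. -/
def Ind4 (S : Type u) [Group S] : Prop := ∀ s : Finset ℕ, s.card = 4 → (∀ p ∈ s, p.Prime ∧ p ∣ Nat.card S) →
  ∃ p ∈ s, ∃ q ∈ s, Adj p q S

/-- No abelian subgroup has index prime to three pairwise nonadjacent primes. -/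
def L2B (S : Type u) [Group S] : Prop := ∀ s : Finset ℕ, s.card = 3 → (∀ p ∈ s, p.Prime ∧ p ∣ Nat.card S) →
  (∀ p ∈ s, ∀ q ∈ s, ¬ Adj p q S) → ∀ A : Subgroup S, (∀ a ∈ A, ∀ b ∈ A, a * b = b * a) →
  (∀ p ∈ s, ¬ p ∣ A.index) → False

/-- The weak facts (for the sporadic groups). -/
structure Weak (S : Type u) [Group S] : Prop where
  ind4 : Ind4 S
  l2b : L2B S
  out : ∀ a : MulAut S, (orderOf a).Prime → orderOf a ∣ Nat.card S

/-- The weak form of `FactInd`. -/
def FactIndW : Prop := ∀ (S : Type u) [Group S] [Finite S] [IsSimpleGroup S], ¬ IsMulCommutative S →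
  ¬ IsL2 S → Ind S ∨ Weak S

theorem FactIndW.of_factInd (h : FactInd.{u}) : FactIndW.{u} := fun S _ _ _ hS hL => Or.inl (h S hS hL)

section

variable {S : Type u} [Group S] [Finite S] [IsSimpleGroup S]

theorem isL2_of_three (hInd : ¬ IsL2 S → Ind S) (hIM : FactIM.{u}) (hS : ¬ IsMulCommutative S) {a b c : ℕ}
    (hab : a ≠ b) (hbc : b ≠ c) (hac : a ≠ c) (ha : a.Prime ∧ a ∣ Nat.card S)
    (hb : b.Prime ∧ b ∣ Nat.card S) (hc : c.Prime ∧ c ∣ Nat.card S) (h1 : ¬ Adj a b S) (h2 : ¬ Adj b c S)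
    (h3 : ¬ Adj a c S) : IsL2 S := by
  by_contra hL
  have hm : ∀ r : ℕ, r.Prime ∧ r ∣ Nat.card S → r ∈ degreePrimes S := fun r hr =>
    mem_degreePrimes.2 ⟨hr.1, hIM S hS r hr.1 hr.2⟩
  rcases hInd hL a (hm a ha) b (hm b hb) c (hm c hc) hab hbc hac with h | h | h
  · exact h1 h
  · exact h2 h
  · exact h3 h

theorem isL2_of_set (hInd : ¬ IsL2 S → Ind S) (hIM : FactIM.{u}) (hS : ¬ IsMulCommutative S) {s : Finset ℕ}
    (h3 : 3 ≤ s.card) (hs : ∀ p ∈ s, p.Prime ∧ p ∣ Nat.card S) (hn : ∀ p ∈ s, ∀ q ∈ s, ¬ Adj p q S) : IsL2 S := by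
  classical
  obtain ⟨t, hts, ht⟩ := Finset.exists_subset_card_eq (s := s) (n := 3) h3
  obtain ⟨a, b, c, hab, hac, hbc, rfl⟩ := Finset.card_eq_three.1 ht
  have ma : a ∈ s := hts (by simp)
  have mb : b ∈ s := hts (by simp)
  have mc : c ∈ s := hts (by simp)
  exact isL2_of_three hInd hIM hS hab hbc hac (hs a ma) (hs b mb) (hs c mc) (hn a ma b mb) (hn b mb c mc)
    (hn a ma c mc)

theorem ind4_of_ind (hInd : ¬ IsL2 S → Ind S) (hIM : FactIM.{u}) (hS : ¬ IsMulCommutative S) : Ind4 S := by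
  classical
  intro s h4 hs
  by_contra hcon
  push Not at hcon
  have hL := isL2_of_set hInd hIM hS (s := s) (by omega) hs hcon
  obtain ⟨F, iF, iF', p, hpf, hch, hF, -, hd, hdeg, hadj⟩ := l2_data hL
  obtain ⟨t', ht's, ht'⟩ := Finset.exists_subset_card_eq (s := s.erase p) (n := 3) (by
    have := Finset.pred_card_le_card_erase (s := s) (a := p)
    omega)
  have h1 := split (S := S) hdeg hadj t' ht' (fun r hr => hs r (Finset.mem_of_mem_erase (ht's hr)))
    (fun x hx y hy => hcon x (Finset.mem_of_mem_erase (ht's hx)) y (Finset.mem_of_mem_erase (ht's hy)))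
  exact Finset.notMem_erase p s (ht's h1.1)

theorem exists_order {l : ℕ} (hlp : l.Prime) (hld : l ∣ Nat.card S) {A : Subgroup S} (hidx : ¬ l ∣ A.index) :
    ∃ x ∈ A, orderOf x = l := by
  have hlA : l ∣ Nat.card A := by
    rw [← Subgroup.card_mul_index A] at hld
    exact ((Nat.Prime.dvd_mul hlp).1 hld).resolve_right hidx
  have : Fact l.Prime := ⟨hlp⟩
  obtain ⟨x, hx⟩ := exists_prime_orderOf_dvd_card' l hlA
  exact ⟨x, x.2, by rwa [Subgroup.orderOf_coe]⟩

theorem l2b_of_ind (hInd : ¬ IsL2 S → Ind S) (hIM : FactIM.{u}) (hS : ¬ IsMulCommutative S) : L2B S := by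
  classical
  intro s h3 hs hn A hA hidx
  have hL := isL2_of_set hInd hIM hS (s := s) (by omega) hs hn
  obtain ⟨F, iF, iF', p, hpf, hch, hF, ⟨e⟩, hd, hdeg, hadj⟩ := l2_data hL
  obtain ⟨hps, ⟨r, hrs, hrp⟩, -, -⟩ := split (S := S) hdeg hadj s h3 hs hn
  obtain ⟨x, hxA, hx⟩ := exists_order (hs p hps).1 (hs p hps).2 (hidx p hps)
  obtain ⟨y, hyA, hy⟩ := exists_order (hs r hrs).1 (hs r hrs).2 (hidx r hrs)
  have hr : r.Prime := (hs r hrs).1
  have hp : p.Prime := Fact.out
  have hxy : Commute x y := hA x hxA y hyA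
  have ho : orderOf (x * y) = p * r := by
    rw [hxy.orderOf_mul_eq_mul_orderOf_of_coprime, hx, hy]
    rw [hx, hy]
    exact (Nat.coprime_primes hp hr).2 hrp.symm
  refine not_order p hr hrp (e (x * y)) ?_
  rw [MulEquiv.orderOf_eq, ho]

end

/-- **Among four prime divisors two are adjacent.** -/
theorem factInd4 (hW : FactIndW.{u}) (hIM : FactIM.{u}) : FactInd4.{u} := by
  intro S _ _ _ hS
  by_cases hL : IsL2 S
  · exact ind4_of_ind (fun h => absurd hL h) hIM hS
  · rcases hW S hS hL with h | h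
    · exact ind4_of_ind (fun _ => h) hIM hS
    · exact h.ind4

/-- **No abelian Hall subgroup.** -/
theorem factL2B (hW : FactIndW.{u}) (hIM : FactIM.{u}) : FactL2B.{u} := by
  intro S _ _ _ hS
  by_cases hL : IsL2 S
  · exact l2b_of_ind (fun h => absurd hL h) hIM hS
  · rcases hW S hS hL with h | h
    · exact l2b_of_ind (fun _ => h) hIM hS
    · exact h.l2b

/-- An element acting as an automorphism of prime order. -/
theorem exists_aut {Γ : Type u} [Group Γ] [Finite Γ] (S : Subgroup Γ) [S.Normal]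
    (hC : Subgroup.centralizer (S : Set Γ) = ⊥) {t : ℕ} (ht : t.Prime) (htd : t ∣ Nat.card Γ) :
    ∃ a : MulAut S, orderOf a = t := by
  have : Fact t.Prime := ⟨ht⟩
  obtain ⟨g, hg⟩ := exists_prime_orderOf_dvd_card' (G := Γ) t htd
  have h1 : MulAut.conjNormal (H := S) g ^ t = 1 := by
    rw [← map_pow, ← hg, pow_orderOf_eq_one, map_one]
  have h2 : MulAut.conjNormal (H := S) g ≠ 1 := by
    intro h
    have h3 : g ∈ Subgroup.centralizer (S : Set Γ) := by
      rw [Subgroup.mem_centralizer_iff]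
      intro s hs
      have h4 := congrArg (fun a : MulAut S => ((a ⟨s, hs⟩ : S) : Γ)) h
      simp only [MulAut.conjNormal_apply, MulAut.one_apply] at h4
      rw [mul_inv_eq_iff_eq_mul] at h4
      exact h4.symm
    rw [hC, Subgroup.mem_bot] at h3
    rw [h3, orderOf_one] at hg
    exact ht.one_lt.ne hg
  exact ⟨_, orderOf_eq_prime h1 h2⟩

/-- **An outer coprime prime is adjacent to one of three pairwise nonadjacent primes.** -/
theorem factL2A (hW : FactIndW.{u}) (hIM : FactIM.{u}) : FactL2A.{u} := by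
  classical
  intro Γ _ _ S _ hSs hS hC t ht htd htS s h3 hs hn
  have hL : IsL2 S := by
    by_cases hL : IsL2 S
    · exact hL
    · rcases hW S hS hL with h | h
      · exact isL2_of_set (fun _ => h) hIM hS (s := s) (by omega) hs hn
      · exfalso
        obtain ⟨a, ha⟩ := exists_aut S hC ht htd
        have h5 := h.out a (by rw [ha]; exact ht)
        rw [ha] at h5
        exact htS h5
  obtain ⟨F, iF, iF', p, hpf, hch, hF, ⟨e⟩, hd, hdeg, hadj⟩ := l2_data hL
  obtain ⟨-, -, ⟨r, hrs, hr1⟩, r', hrs', hr2⟩ := split (S := S) hdeg hadj s h3 hs hn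
  have hidx : t ∣ S.index := by
    have h1 := Subgroup.card_mul_index S
    rw [← h1] at htd
    exact ((Nat.Prime.dvd_mul ht).1 htd).resolve_left htS
  obtain ⟨d, hdd, h⟩ := outer_deg S e hF hC ht hidx htS
  rcases h with h | h
  · refine ⟨r', hrs', ?_⟩
    obtain ⟨hr', hrd'⟩ := hs r' hrs'
    refine ⟨?_, ht, hr', d, hdd, (Nat.mul_dvd_mul_left t hr2).trans h⟩
    rintro rfl
    exact htS hrd'
  · refine ⟨r, hrs, ?_⟩
    obtain ⟨hr', hrd'⟩ := hs r hrs
    refine ⟨?_, ht, hr', d, hdd, (Nat.mul_dvd_mul_left t hr1).trans h⟩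
    rintro rfl
    exact htS hrd'

end Cfsg.Agent.H653.Four
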